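import Groth.Agent.S0597
import Mathlib.RingTheory.AdicCompletion.Algebra

/-!
# Approximation of solutions of polynomial systems over a henselian pair with regular completion,
in the form used by the approximation theorem for functors
-/

set_option autoImplicit false
universe u

namespace K142.ApproxPair

theorem evalₐ_map_pow_eq_zero {A : Type u} [CommRing A] (I : Ideal A) (c : ℕ)
    (x : AdicCompletion I A) (hx : x ∈ (I ^ c).map (algebraMap A (AdicCompletion I A))) :
    AdicCompletion.evalₐ I c x = 0 := by
  have h : (I ^ c).map (algebraMap A (AdicCompletion I A)) ≤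
      RingHom.ker (AdicCompletion.evalₐ I c).toRingHom := by
    rw [Ideal.map_le_iff_le_comap]
    intro a ha
    rw [Ideal.mem_comap, RingHom.mem_ker]
    change AdicCompletion.evalₐ I c (algebraMap A (AdicCompletion I A) a) = 0
    rw [AlgHom.commutes]
    exact Ideal.Quotient.eq_zero_iff_mem.mpr ha
  exact h hx

/-- Approximation of solutions of polynomial systems over a henselian pair. -/
theorem approx (A : Type u) [CommRing A] [IsNoetherianRing A] (I : Ideal A) [HenselianRing A I]
    (hreg : CAlg.IsRegularHom A (AdicCompletion I A)) (k l c : ℕ)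
    (f : Fin l → MvPolynomial (Fin k) A) (â : Fin k → AdicCompletion I A)
    (hâ : ∀ i, MvPolynomial.aeval â (f i) = 0) :
    ∃ a : Fin k → A, (∀ i, MvPolynomial.eval a (f i) = 0) ∧
      ∀ j, Ideal.Quotient.mk (I ^ c) (a j) = AdicCompletion.evalₐ I c (â j) := by
  obtain ⟨b, hb, hab⟩ := Groth.Agent.S0597.result A I hreg k l f â (fun j => by
    rw [MvPolynomial.eval_map, ← MvPolynomial.aeval_def]
    exact hâ j) c
  refine ⟨b, hb, fun j => ?_⟩
  have h := evalₐ_map_pow_eq_zero I c _ (hab j)
  rw [map_sub, sub_eq_zero, AlgHom.commutes] at h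
  exact h.symm

end K142.ApproxPair
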