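import Groth.Agent.Hensel.K142.StrictSmooth
import Groth.Agent.Hensel.Lazard
import Mathlib.RingTheory.Flat.EquationalCriterion
import Mathlib.RingTheory.TensorProduct.Quotient
import Mathlib.RingTheory.Localization.Algebra

/-!
# Strict henselizations of quotients of localizations; prime elements and smooth algebras
-/

set_option autoImplicit false
universe u

namespace K142.StrictQuot

open IsLocalRing TensorProduct K142.StrictSmooth

/-- Quotients of strict henselizations, existence form. -/
theorem exists_quot {A A₁ S : Type u} [CommRing A] [IsLocalRing A] [CommRing A₁] [IsLocalRing A₁]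
    [CommRing S] [IsLocalRing S] [Algebra A S] [IsLocalHom (algebraMap A S)]
    [hS : Hensel.IsStrictHenselization A S] (π : A →+* A₁) (hπ : Function.Surjective π)
    (I : Ideal A) (hI : RingHom.ker π = I) :
    ∃ (_ : Algebra A₁ (S ⧸ I.map (algebraMap A S))) (_ : IsLocalRing (S ⧸ I.map (algebraMap A S)))
      (_ : IsLocalHom (algebraMap A₁ (S ⧸ I.map (algebraMap A S)))),
      Hensel.IsStrictHenselization A₁ (S ⧸ I.map (algebraMap A S)) := by
  have hImax : I ≤ maximalIdeal A := by
    rw [← hI]
    exact le_maximalIdeal (RingHom.ker_ne_top π)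
  have hmap : I.map (algebraMap A S) ≤ maximalIdeal S := by
    refine (Ideal.map_mono hImax).trans ?_
    exact ((local_hom_TFAE (algebraMap A S)).out 0 2).mp ‹_›
  have hnt : Nontrivial (S ⧸ I.map (algebraMap A S)) :=
    Ideal.Quotient.nontrivial_iff.mpr (ne_top_of_le_ne_top (maximalIdeal.isMaximal S).ne_top hmap)
  let ρ : S →+* S ⧸ I.map (algebraMap A S) := Ideal.Quotient.mk _
  have hρ : Function.Surjective ρ := Ideal.Quotient.mk_surjective
  have hloc : IsLocalRing (S ⧸ I.map (algebraMap A S)) := IsLocalRing.of_surjective' ρ hρ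
  let g : A₁ →+* S ⧸ I.map (algebraMap A S) := RingHom.liftOfSurjective π hπ
    ⟨ρ.comp (algebraMap A S), fun x hx => by
      rw [hI] at hx
      exact Ideal.Quotient.eq_zero_iff_mem.mpr (Ideal.mem_map_of_mem _ hx)⟩
  have hg : ∀ a, g (π a) = ρ (algebraMap A S a) := fun x =>
    RingHom.liftOfRightInverse_comp_apply _ _ _ _ _
  have hlρ : IsLocalHom ρ := IsLocalHom.of_surjective ρ hρ
  have hlg : IsLocalHom g := by
    constructor
    intro a ha
    obtain ⟨a, rfl⟩ := hπ a
    rw [hg] at ha
    exact ((isUnit_of_map_unit (algebraMap A S) _ (isUnit_of_map_unit ρ _ ha))).map π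
  let _ := g.toAlgebra
  refine ⟨g.toAlgebra, hloc, hlg, ?_⟩
  refine isStrictHenselization_of_surjective A A₁ S _ π hπ ρ hρ ?_ ?_
  · ext a
    exact hg a
  · rw [hI]
    exact Ideal.mk_ker

/-- The localization of a surjection is surjective, with kernel generated by the kernel. -/
theorem localRingHom_surjective_and_ker {R R₁ : Type u} [CommRing R] [CommRing R₁] (f : R →+* R₁)
    (hf : Function.Surjective f) (p : Ideal R) [p.IsPrime] (p₁ : Ideal R₁) [p₁.IsPrime]
    (hp : p = p₁.comap f) :
    Function.Surjective (Localization.localRingHom p p₁ f hp) ∧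
      RingHom.ker (Localization.localRingHom p p₁ f hp) =
        (RingHom.ker f).map (algebraMap R (Localization.AtPrime p)) := by
  have hT : Submonoid.map f p.primeCompl = p₁.primeCompl := by
    ext x
    constructor
    · rintro ⟨y, hy, rfl⟩ h
      apply hy
      rw [hp]
      exact h
    · intro hx
      obtain ⟨y, rfl⟩ := hf x
      refine ⟨y, fun h => hx ?_, rfl⟩
      rw [hp] at h
      exact h
  constructor
  · intro x
    obtain ⟨a, s, rfl⟩ := IsLocalization.exists_mk'_eq p₁.primeCompl x
    obtain ⟨a, rfl⟩ := hf a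
    obtain ⟨t, ht, hts⟩ := hT.ge s.2
    refine ⟨IsLocalization.mk' _ a ⟨t, ht⟩, ?_⟩
    rw [Localization.localRingHom_mk']
    congr 1
    exact Subtype.ext hts
  · exact IsLocalization.ker_map (Localization.AtPrime p₁) f hT

/-- Smoothness of the quotient. -/
theorem smooth_quotient (R S : Type u) [CommRing R] [CommRing S] [Algebra R S] [Algebra.Smooth R S]
    (I : Ideal R) : Algebra.Smooth (R ⧸ I) (S ⧸ I.map (algebraMap R S)) :=
  Algebra.Smooth.of_equiv (Algebra.TensorProduct.quotIdealMapEquivQuotTensor S I).symm

/-- The key transfer: if `Δ ∈ p` is prime in a strict henselization of `R_p`, and `R_p` is a domain,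
then `Δ` is prime in every strict henselization of a local ring of a smooth `R`-algebra over `p`. -/
theorem prime_of_smooth {R R' : Type u} [CommRing R] [CommRing R'] [Algebra R R']
    [Algebra.Smooth R R'] (q : Ideal R') [q.IsPrime] (p : Ideal R) [p.IsPrime] [q.LiesOver p]
    [IsDomain (Localization.AtPrime p)] (Δ : R) (hΔp : Δ ∈ p)
    (A : Type u) [CommRing A] [IsLocalRing A] [Algebra (Localization.AtPrime p) A]
    [IsLocalHom (algebraMap (Localization.AtPrime p) A)]
    [Hensel.IsStrictHenselization (Localization.AtPrime p) A]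
    (hA : Prime (algebraMap (Localization.AtPrime p) A (algebraMap R (Localization.AtPrime p) Δ)))
    (T : Type u) [CommRing T] [IsLocalRing T] [Algebra (Localization.AtPrime q) T]
    [IsLocalHom (algebraMap (Localization.AtPrime q) T)]
    [Hensel.IsStrictHenselization (Localization.AtPrime q) T] :
    Prime (algebraMap (Localization.AtPrime q) T (algebraMap R' (Localization.AtPrime q)
      (algebraMap R R' Δ))) := by
  let P := Localization.AtPrime p
  let Q := Localization.AtPrime q
  have hover : p = q.comap (algebraMap R R') := Ideal.LiesOver.over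
  -- the quotient situation
  let I : Ideal R := Ideal.span {Δ}
  let I' : Ideal R' := I.map (algebraMap R R')
  have hI' : I' = Ideal.span {algebraMap R R' Δ} := by
    change (Ideal.span {Δ}).map (algebraMap R R') = _
    rw [Ideal.map_span, Set.image_singleton]
  have hsm : Algebra.Smooth (R ⧸ I) (R' ⧸ I') := smooth_quotient R R' I
  have hIp : I ≤ p := by
    change Ideal.span {Δ} ≤ p
    rwa [Ideal.span_le, Set.singleton_subset_iff]
  have hIq : I' ≤ q := Ideal.map_le_iff_le_comap.mpr (hIp.trans hover.le)
  have hp₁ : (p.map (Ideal.Quotient.mk I)).IsPrime :=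
    Ideal.map_isPrime_of_surjective Ideal.Quotient.mk_surjective (by rwa [Ideal.mk_ker])
  have hq₁ : (q.map (Ideal.Quotient.mk I')).IsPrime :=
    Ideal.map_isPrime_of_surjective Ideal.Quotient.mk_surjective (by rwa [Ideal.mk_ker])
  have hpc : p = (p.map (Ideal.Quotient.mk I)).comap (Ideal.Quotient.mk I) := by
    rw [Ideal.comap_map_of_surjective _ Ideal.Quotient.mk_surjective, ← RingHom.ker_eq_comap_bot,
      Ideal.mk_ker, sup_eq_left.mpr hIp]
  have hqc : q = (q.map (Ideal.Quotient.mk I')).comap (Ideal.Quotient.mk I') := by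
    rw [Ideal.comap_map_of_surjective _ Ideal.Quotient.mk_surjective, ← RingHom.ker_eq_comap_bot,
      Ideal.mk_ker, sup_eq_left.mpr hIq]
  have hlo : (q.map (Ideal.Quotient.mk I')).LiesOver (p.map (Ideal.Quotient.mk I)) := by
    constructor
    apply Ideal.comap_injective_of_surjective _ Ideal.Quotient.mk_surjective
    rw [← hpc, Ideal.under, Ideal.comap_comap]
    have h1 : (algebraMap (R ⧸ I) (R' ⧸ I')).comp (Ideal.Quotient.mk I) =
        (Ideal.Quotient.mk I').comp (algebraMap R R') := by
      ext r; rfl
    rw [h1, ← Ideal.comap_comap, ← hqc]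
    exact hover
  obtain ⟨hs1, hk1⟩ := localRingHom_surjective_and_ker (Ideal.Quotient.mk I)
    Ideal.Quotient.mk_surjective p _ hpc
  obtain ⟨hs2, hk2⟩ := localRingHom_surjective_and_ker (Ideal.Quotient.mk I')
    Ideal.Quotient.mk_surjective q _ hqc
  rw [Ideal.mk_ker] at hk1 hk2
  obtain ⟨_, _, _, _⟩ := exists_quot (S := A) _ hs1 _ hk1
  obtain ⟨_, _, _, _⟩ := exists_quot (S := T) _ hs2 _ hk2
  have e1 : (I.map (algebraMap R P)).map (algebraMap P A) =
      Ideal.span {algebraMap P A (algebraMap R P Δ)} := by
    change ((Ideal.span {Δ}).map (algebraMap R P)).map (algebraMap P A) = _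
    rw [Ideal.map_span, Set.image_singleton, Ideal.map_span, Set.image_singleton]
  have e2 : (I'.map (algebraMap R' Q)).map (algebraMap Q T) =
      Ideal.span {algebraMap Q T (algebraMap R' Q (algebraMap R R' Δ))} := by
    rw [hI', Ideal.map_span, Set.image_singleton, Ideal.map_span, Set.image_singleton]
  have hd1 : IsDomain (A ⧸ (I.map (algebraMap R P)).map (algebraMap P A)) := by
    rw [e1, Ideal.Quotient.isDomain_iff_prime]
    exact (Ideal.span_singleton_prime hA.ne_zero).mpr hA
  have hd2 : IsDomain (T ⧸ (I'.map (algebraMap R' Q)).map (algebraMap Q T)) :=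
    isDomain_of_smooth (q.map (Ideal.Quotient.mk I')) (p.map (Ideal.Quotient.mk I))
      (A ⧸ (I.map (algebraMap R P)).map (algebraMap P A)) _
  rw [e2, Ideal.Quotient.isDomain_iff_prime] at hd2
  refine (Ideal.span_singleton_prime ?_).mp hd2
  -- nonvanishing
  have hΔ0 : algebraMap R P Δ ≠ 0 := fun h => hA.ne_zero (by
    change algebraMap P A (algebraMap R P Δ) = 0
    rw [h, map_zero])
  have hfl1 : Module.Flat R R' := inferInstance
  have hQT : Function.Injective (algebraMap Q T) := by
    have := Groth.Agent.Hensel.Lazard.faithfullyFlat_of_isStrictHenselization Q T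
    exact FaithfulSMul.algebraMap_injective _ _
  rw [Ne, map_eq_zero_iff _ hQT]
  intro h0
  rw [IsLocalization.map_eq_zero_iff q.primeCompl] at h0
  obtain ⟨t, ht⟩ := h0
  have ht' : ∑ i : Fin 1, (fun _ => Δ : Fin 1 → R) i • (fun _ => (t : R') : Fin 1 → R') i = 0 := by
    rw [Fin.sum_univ_one, Algebra.smul_def, mul_comm]
    exact ht
  obtain ⟨k, a, y, hy, ha⟩ := Module.Flat.isTrivialRelation_of_sum_smul_eq_zero ht'
  have ha' : ∀ j, algebraMap R' Q (algebraMap R R' (a 0 j)) = 0 := by
    intro j
    have h1 := ha j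
    rw [Fin.sum_univ_one] at h1
    have h2 : algebraMap R P (a 0 j) = 0 := by
      have h3 := congrArg (algebraMap R P) h1
      rw [map_mul, map_zero] at h3
      exact (mul_eq_zero.mp h3).resolve_left hΔ0
    have h4 := congrArg (Localization.localRingHom p q (algebraMap R R') hover) h2
    rw [Localization.localRingHom_to_map, map_zero] at h4
    exact h4
  have ht0 : algebraMap R' Q (t : R') = 0 := by
    have h5 : (t : R') = ∑ j, a 0 j • y j := hy 0
    rw [h5, map_sum]
    refine Finset.sum_eq_zero fun j _ => ?_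
    rw [Algebra.smul_def, map_mul, ha', zero_mul]
  exact (IsLocalization.map_units Q t).ne_zero ht0

end K142.StrictQuot
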