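import Groth.Agent.S2129
import Groth.Agent.S2135
import Groth.Agent.S2750
import Groth.Agent.CalgB.SmoothReduced
import Groth.Agent.Etbase.QuotHens

/-!
# Strict henselizations and smooth algebras

* `isStrictHenselization_self`: a strictly henselian local ring is its own strict henselization.
* `isStrictHenselization_of_surjective`: quotients of strict henselizations.
* `isReduced_atPrime_of_smooth`: for `R → S` smooth and `q` over `p`, `S_q` is reduced if `R_p` is.
* `isDomain_of_smooth`: for `R → S` smooth and `q` over `p`, a strict henselization of `S_q` is a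
  domain if a strict henselization of `R_p` is.
-/

set_option autoImplicit false
universe u

namespace K142.StrictSmooth

open IsLocalRing TensorProduct

theorem isStrictHenselization_self (A : Type u) [CommRing A] [HenselianLocalRing A]
    [IsSepClosed (ResidueField A)] : Hensel.IsStrictHenselization A A where
  henselian := inferInstance
  isSepClosure := by
    have h : (ResidueField.instAlgebra : Algebra (ResidueField A) (ResidueField A)) =
        Algebra.id (ResidueField A) := by
      refine Algebra.algebra_ext _ _ fun r => ?_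
      obtain ⟨r, rfl⟩ := residue_surjective r
      rfl
    rw [h]
    exact IsSepClosure.self_of_isSepClosed _
  universal := by
    intro T _ _ f _ τ hτ
    refine ⟨f, ⟨?_, fun x => ?_⟩, fun g hg => ?_⟩
    · ext; rfl
    · have := congrArg (fun φ : ResidueField A →+* ResidueField T => φ (residue A x)) hτ
      exact this.symm
    · rw [← hg.1]
      ext; rfl

section Quot

variable (A A₁ S S₁ : Type u) [CommRing A] [IsLocalRing A] [CommRing A₁] [IsLocalRing A₁]
  [CommRing S] [IsLocalRing S] [CommRing S₁] [IsLocalRing S₁] [Algebra A S]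
  [IsLocalHom (algebraMap A S)] [Algebra A₁ S₁] [IsLocalHom (algebraMap A₁ S₁)]

theorem residueField_map_bijective {A A₁ : Type u} [CommRing A] [IsLocalRing A] [CommRing A₁]
    [IsLocalRing A₁] (π : A →+* A₁) [IsLocalHom π] (hπ : Function.Surjective π) :
    Function.Bijective (ResidueField.map π) := by
  refine ⟨RingHom.injective _, fun x => ?_⟩
  obtain ⟨s, rfl⟩ := residue_surjective x
  obtain ⟨r, rfl⟩ := hπ s
  exact ⟨residue A r, rfl⟩

/-- A quotient of a strict henselization is a strict henselization of the quotient. -/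
theorem isStrictHenselization_of_surjective [hS : Hensel.IsStrictHenselization A S]
    (π : A →+* A₁) (hπ : Function.Surjective π) (ρ : S →+* S₁) (hρ : Function.Surjective ρ)
    (hcomm : (algebraMap A₁ S₁).comp π = ρ.comp (algebraMap A S))
    (hker : RingHom.ker ρ = (RingHom.ker π).map (algebraMap A S)) :
    Hensel.IsStrictHenselization A₁ S₁ := by
  have h1 : HenselianLocalRing S := Hensel.IsStrictHenselization.henselian A
  have h2 := Hensel.IsStrictHenselization.isSepClosure (R := A) (S := S)
  have h3 := h2.1
  have h4 := h2.2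
  have hlπ : IsLocalHom π := IsLocalHom.of_surjective π hπ
  have hlρ : IsLocalHom ρ := IsLocalHom.of_surjective ρ hρ
  have hbπ := residueField_map_bijective π hπ
  have hbρ := residueField_map_bijective ρ hρ
  let eπ := RingEquiv.ofBijective _ hbπ
  let eρ := RingEquiv.ofBijective _ hbρ
  have hcomm' : ∀ a, algebraMap A₁ S₁ (π a) = ρ (algebraMap A S a) := fun a =>
    congrArg (fun φ : A →+* S₁ => φ a) hcomm
  have hres : (ResidueField.map (algebraMap A₁ S₁)).comp (ResidueField.map π) =
      (ResidueField.map ρ).comp (ResidueField.map (algebraMap A S)) := by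
    apply Ideal.Quotient.ringHom_ext
    ext a
    change residue S₁ (algebraMap A₁ S₁ (π a)) = residue S₁ (ρ (algebraMap A S a))
    rw [hcomm']
  refine ⟨Groth.Agent.Etbase.QuotHens.henselianLocalRing_of_surjective ρ hρ, ?_, ?_⟩
  · refine ⟨?_, ?_⟩
    · have := (Groth.Agent.Etbase.QuotHens.isStrictlyHenselian_of_surjective ρ hρ ⟨h1, h3⟩)
      obtain ⟨_, h⟩ := this
      exact h
    · refine Algebra.IsSeparable.of_equiv_equiv eπ eρ ?_
      exact hres
  · intro T _ _ f _ τ hτ
    have hlf : IsLocalHom (f.comp π) := inferInstance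
    obtain ⟨g, ⟨hg1, hg2⟩, hguniq⟩ := hS.universal T (f.comp π) (τ.comp (ResidueField.map ρ)) (by
      rw [RingHom.comp_assoc, ← hres, ← RingHom.comp_assoc, hτ]
      apply Ideal.Quotient.ringHom_ext
      ext a
      rfl)
    have hg1' : ∀ a, g (algebraMap A S a) = f (π a) := fun a =>
      congrArg (fun φ : A →+* T => φ a) hg1
    have hkill : ∀ x ∈ RingHom.ker ρ, g x = 0 := by
      intro x hx
      have h5 : (RingHom.ker π).map (algebraMap A S) ≤ RingHom.ker g := by
        rw [Ideal.map_le_iff_le_comap]
        intro a ha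
        rw [Ideal.mem_comap, RingHom.mem_ker, hg1', (RingHom.mem_ker).mp ha, map_zero]
      rw [hker] at hx
      exact h5 hx
    let g₁ : S₁ →+* T := RingHom.liftOfSurjective ρ hρ ⟨g, fun x hx => hkill x hx⟩
    have hg₁ : ∀ x, g₁ (ρ x) = g x := fun x =>
      RingHom.liftOfRightInverse_comp_apply _ _ _ _ _
    refine ⟨g₁, ⟨?_, fun x => ?_⟩, fun g' hg' => ?_⟩
    · ext a
      obtain ⟨a, rfl⟩ := hπ a
      rw [RingHom.comp_apply, hcomm', hg₁, hg1']
    · obtain ⟨x, rfl⟩ := hρ x
      rw [hg₁, hg2]
      rfl
    · have h6 : g'.comp ρ = g := by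
        apply hguniq
        refine ⟨?_, fun x => ?_⟩
        · ext a
          have := congrArg (fun φ : A₁ →+* T => φ (π a)) hg'.1
          simp only [RingHom.comp_apply] at this ⊢
          rw [← hcomm', this]
        · exact hg'.2 (ρ x)
      ext x
      obtain ⟨x, rfl⟩ := hρ x
      rw [hg₁, ← h6]
      rfl

end Quot

section Reduced

variable (R S : Type u) [CommRing R] [CommRing S] [Algebra R S] [Algebra.Smooth R S]
  (q : Ideal S) [q.IsPrime] (p : Ideal R) [p.IsPrime] [q.LiesOver p]

include p in
theorem isReduced_atPrime_of_smooth [IsReduced (Localization.AtPrime p)] :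
    IsReduced (Localization.AtPrime q) := by
  have hred : IsReduced (Localization.AtPrime p ⊗[R] S) :=
    Groth.Agent.CalgB.SmoothReduced.isReduced_of_smooth (Localization.AtPrime p) _
  have hloc : IsLocalizedModule p.primeCompl (TensorProduct.mk R (Localization.AtPrime p) S 1) :=
    (isLocalizedModule_iff_isBaseChange p.primeCompl (Localization.AtPrime p) _).mpr
      (TensorProduct.isBaseChange R S (Localization.AtPrime p))
  constructor
  intro x hx
  obtain ⟨a, s, rfl⟩ := IsLocalization.exists_mk'_eq q.primeCompl x
  have ha : IsNilpotent (algebraMap S (Localization.AtPrime q) a) := by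
    rw [← IsLocalization.mk'_spec (Localization.AtPrime q) a s]
    exact (Commute.all _ _).isNilpotent_mul_right hx
  obtain ⟨n, hn⟩ := ha
  rw [← map_pow, IsLocalization.map_eq_zero_iff q.primeCompl] at hn
  obtain ⟨t, ht⟩ := hn
  have h1 : IsNilpotent ((t : S) * a) := by
    refine ⟨n + 1, ?_⟩
    rw [mul_pow, pow_succ (t : S), pow_succ a]
    linear_combination ((t : S) ^ n * a) * ht
  have h2 : TensorProduct.mk R (Localization.AtPrime p) S 1 ((t : S) * a) = 0 :=
    (h1.map (Algebra.TensorProduct.includeRight : S →ₐ[R] Localization.AtPrime p ⊗[R] S)).eq_zero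
  rw [IsLocalizedModule.eq_zero_iff p.primeCompl] at h2
  obtain ⟨r, hr⟩ := h2
  rw [IsLocalization.mk'_eq_zero_iff]
  refine ⟨⟨algebraMap R S r * t, ?_⟩, ?_⟩
  · refine q.primeCompl.mul_mem ?_ t.2
    intro h
    exact r.2 ((Ideal.LiesOver.over (P := q) (p := p)).ge h)
  · change (algebraMap R S r * t) * a = 0
    rw [mul_assoc, ← Algebra.smul_def]
    exact hr

end Reduced

section Domain

variable {R S : Type u} [CommRing R] [CommRing S] [Algebra R S] [Algebra.Smooth R S]
  (q : Ideal S) [q.IsPrime] (p : Ideal R) [p.IsPrime] [q.LiesOver p]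
  (Ash : Type u) [CommRing Ash] [IsLocalRing Ash] [Algebra (Localization.AtPrime p) Ash]
  [IsLocalHom (algebraMap (Localization.AtPrime p) Ash)]
  [Hensel.IsStrictHenselization (Localization.AtPrime p) Ash]
  (Bsh : Type u) [CommRing Bsh] [IsLocalRing Bsh] [Algebra (Localization.AtPrime q) Bsh]
  [IsLocalHom (algebraMap (Localization.AtPrime q) Bsh)]
  [Hensel.IsStrictHenselization (Localization.AtPrime q) Bsh]

include q p Ash in
/-- For `R → S` smooth and `q` over `p`: if a strict henselization of `R_p` is a domain, then so is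
every strict henselization of `S_q`. -/
theorem isDomain_of_smooth [IsDomain Ash] : IsDomain Bsh := by
  have h1 := (Groth.Agent.S2750.result (Localization.AtPrime p) Ash).mpr inferInstance
  have := h1.1
  have h2 : IsReduced (Localization.AtPrime q) := isReduced_atPrime_of_smooth R S q p
  have h3 : (minimalPrimes Ash).encard = 1 := by
    rw [IsDomain.minimalPrimes_eq_singleton_bot, Set.encard_singleton]
  rw [Groth.Agent.S2129.result q p (Ash := Ash) (Bsh := Bsh), Set.encard_eq_one] at h3
  obtain ⟨P, hP⟩ := h3
  have h4 : CAlg2.IsGeomUnibranch (Localization.AtPrime q) := by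
    rw [Groth.Agent.S2135.result (Ash := Bsh)]
    refine ⟨P, ?_, fun P' hP' => ?_⟩
    · rw [hP]; rfl
    · rw [hP] at hP'; exact hP'
  exact (Groth.Agent.S2750.result (Localization.AtPrime q) Bsh).mp ⟨h2, h4⟩

end Domain

end K142.StrictSmooth
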